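import Groth.Agent.Fga.RigGrp
import Groth.Agent.Picfga.P1Def

/-!
# Universal normalised sections

For `f : X ⟶ S` with a section `σ`, `T` over `S`, a module `L` on `X_T` and a section `e` of `σ_T^* L`:

* `tr w M : a^* b^* M ≅ c^* M` for `w : a ≫ b = c`; `ps w s`: the pull-back along `a` of a section `s` of `b^* M`, as
  a section of `c^* M`;
* `HasVal f σ hσ L e g s`: the section `s` of the pull-back of `L` along `g : T' ⟶ T` has value `e` along `σ`;
* `IsUnivSec f σ hσ L e q s`: `q : U ⟶ T` with the section `s` of the pull-back of `L` to `X_U` represents the functor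
  of sections with value `e` along `σ` (tested on affine schemes).
-/

set_option autoImplicit false
universe u
open CategoryTheory CategoryTheory.Limits AlgebraicGeometry Opposite TopologicalSpace
open Groth.Agent.Fdesc.LocGen Groth.Agent.Picfga.P1Def

namespace K220.BNDef

section tr

variable {W X Y Z : Scheme.{u}}

/-- The canonical isomorphism `a^* b^* M ≅ c^* M` for `a ≫ b = c`. -/
noncomputable def tr {a : X ⟶ Y} {b : Y ⟶ Z} {c : X ⟶ Z} (w : a ≫ b = c) (M : Z.Modules) :
    (Scheme.Modules.pullback a).obj ((Scheme.Modules.pullback b).obj M) ≅ (Scheme.Modules.pullback c).obj M :=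
  (Scheme.Modules.pullbackComp a b).app M ≪≫ (Scheme.Modules.pullbackCongr w).app M

/-- The pull-back along `a` of a section of `b^* M`, as a section of `c^* M`, where `a ≫ b = c`. -/
noncomputable def ps {a : X ⟶ Y} {b : Y ⟶ Z} {c : X ⟶ Z} (w : a ≫ b = c) {M : Z.Modules}
    (s : Γ((Scheme.Modules.pullback b).obj M, ⊤)) : Γ((Scheme.Modules.pullback c).obj M, ⊤) :=
  (tr w M).hom.app ⊤ (pullTop a s)

theorem tr_rfl {a : X ⟶ Y} {b : Y ⟶ Z} (M : Z.Modules) :
    tr (rfl : a ≫ b = a ≫ b) M = (Scheme.Modules.pullbackComp a b).app M := by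
  unfold tr Scheme.Modules.pullbackCongr
  ext1
  simp

theorem ps_pullTop {a : X ⟶ Y} {b : Y ⟶ Z} {c : X ⟶ Z} (w : a ≫ b = c) {M : Z.Modules} (m : Γ(M, ⊤)) :
    ps w (pullTop b m) = pullTop c m := by
  subst w
  unfold ps
  rw [tr_rfl]
  exact pullSec_comp' a b (U := ⊤) m

theorem ps_smul {a : X ⟶ Y} {b : Y ⟶ Z} {c : X ⟶ Z} (w : a ≫ b = c) {M : Z.Modules} (r : Γ(Y, ⊤))
    (s : Γ((Scheme.Modules.pullback b).obj M, ⊤)) : ps w (r • s) = a.appTop.hom r • ps w s := by
  unfold ps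
  rw [show pullTop a (r • s) = a.appTop.hom r • pullTop a s from pullSec_smul a r s]
  exact Scheme.Modules.Hom.app_smul _ _ _

theorem isGen_ps {a : X ⟶ Y} {b : Y ⟶ Z} {c : X ⟶ Z} (w : a ≫ b = c) {M : Z.Modules}
    {s : Γ((Scheme.Modules.pullback b).obj M, ⊤)} (hs : IsGen s) : IsGen (ps w s) :=
  (hs.pullTop a).app (tr w M).hom

theorem ps_comp {a' : W ⟶ X} {a : X ⟶ Y} {b : Y ⟶ Z} {c : X ⟶ Z} {a'' : W ⟶ Y} {d : W ⟶ Z} (w : a ≫ b = c)
    (w' : a' ≫ c = d) (w'' : a' ≫ a = a'') (w3 : a'' ≫ b = d) {M : Z.Modules}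
    (s : Γ((Scheme.Modules.pullback b).obj M, ⊤)) : ps w' (ps w s) = ps w3 s := by
  subst w w''
  subst w'
  have h1 := congr(($(Scheme.Modules.pseudofunctor_associativity a' a b)).app M)
  simp only [NatTrans.comp_app, Functor.whiskerRight_app, Functor.associator_hom_app, Category.id_comp,
    Functor.whiskerLeft_app] at h1
  have h2 : (Scheme.Modules.pullbackComp a' a).hom.app ((Scheme.Modules.pullback b).obj M) ≫
      (Scheme.Modules.pullbackComp (a' ≫ a) b).hom.app M =
      ((Scheme.Modules.pullback a').map ((Scheme.Modules.pullbackComp a b).hom.app M) ≫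
        (Scheme.Modules.pullbackComp a' (a ≫ b)).hom.app M) ≫ (Scheme.Modules.pullbackCongr w3.symm).hom.app M := by
    have h3 : (Scheme.Modules.pullbackCongr w3.symm).hom.app M = _ := h1.symm
    rw [h3]
    simp only [Category.assoc, Iso.hom_inv_id_app_assoc]
    rw [← Functor.map_comp_assoc, Iso.hom_inv_id_app, CategoryTheory.Functor.map_id, Category.id_comp]
  have h4 : pullTop (a' ≫ a) s = ((Scheme.Modules.pullbackComp a' a).hom.app _).app ⊤ (pullTop a' (pullTop a s)) :=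
    (pullSec_comp' a' a (U := ⊤) s).symm
  have h5 : ((Scheme.Modules.pullbackComp (a' ≫ a) b).hom.app M).app ⊤ (pullTop (a' ≫ a) s) =
      ((Scheme.Modules.pullbackCongr w3.symm).hom.app M).app ⊤ (ps (rfl : a' ≫ a ≫ b = a' ≫ a ≫ b)
        (ps (rfl : a ≫ b = a ≫ b) s)) := by
    rw [h4]
    refine congr(($h2).app ⊤ (pullTop a' (pullTop a s))).trans ?_
    unfold ps
    rw [tr_rfl, tr_rfl]
    exact congrArg (fun z => ((Scheme.Modules.pullbackCongr w3.symm).hom.app M).app ⊤
      (((Scheme.Modules.pullbackComp a' (a ≫ b)).hom.app M).app ⊤ z))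
      (pullback_map_pullSec a' ((Scheme.Modules.pullbackComp a b).hom.app M) (U := ⊤) (pullTop a s))
  have h6 : (Scheme.Modules.pullbackCongr w3.symm).hom.app M ≫ (Scheme.Modules.pullbackCongr w3).hom.app M = 𝟙 _ := by
    simp [Scheme.Modules.pullbackCongr]
  symm
  change ((Scheme.Modules.pullbackCongr w3).hom.app M).app ⊤
    (((Scheme.Modules.pullbackComp (a' ≫ a) b).hom.app M).app ⊤ (pullTop (a' ≫ a) s)) = _
  rw [h5]
  exact congr(($h6).app ⊤ _)

end tr

section over

variable {X S : Scheme.{u}} (f : X ⟶ S) (σ : S ⟶ X) (hσ : σ ≫ f = 𝟙 S)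

/-- The section `s` of the pull-back of `L` along `g : T' ⟶ T` has value (the pull-back of) `e` along `σ`. -/
def HasVal {T T' : Over S} (L : (PicF.XT f T).Modules)
    (e : Γ((Scheme.Modules.pullback (PicF.secT f σ hσ T)).obj L, ⊤)) (g : T' ⟶ T) (s : Γ(pb f g L, ⊤)) : Prop :=
  ps (rfl : PicF.secT f σ hσ T' ≫ PicF.XTmap f g = PicF.secT f σ hσ T' ≫ PicF.XTmap f g) s =
    ps (Groth.Agent.Fga.RigGrp.secT_XTmap f σ hσ g).symm e

theorem XTmap_w {T T' T'' : Over S} {h : T'' ⟶ T'} {g : T' ⟶ T} {g' : T'' ⟶ T} (w : h ≫ g = g') :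
    PicF.XTmap f h ≫ PicF.XTmap f g = PicF.XTmap f g' := by
  rw [← w]
  exact (Groth.Agent.Fga.RigGrp.XTmap_comp f g h).symm

/-- `q : U ⟶ T` with the section `s` of the pull-back of `L` to `X_U` represents the functor of sections with
value `e` along `σ`. -/
structure IsUnivSec {T U : Over S} (L : (PicF.XT f T).Modules)
    (e : Γ((Scheme.Modules.pullback (PicF.secT f σ hσ T)).obj L, ⊤)) (q : U ⟶ T) (s : Γ(pb f q L, ⊤)) : Prop where
  val : HasVal f σ hσ L e q s
  univ : ∀ (T' : Over S) (g : T' ⟶ T) (s' : Γ(pb f g L, ⊤)), IsAffine T'.left → HasVal f σ hσ L e g s' →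
    ∃! h : T' ⟶ U, ∃ w : h ≫ q = g, ps (XTmap_w f w) s = s'

end over

end K220.BNDef
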